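import Mathlib
import Cfsg.Agent.Base
import Cfsg.Agent.Lib.ZD.Basic
import Cfsg.Agent.Lib.BSE.Main
import Cfsg.Agent.Lib.ZD.RK1a

/-! ZD package RK1: `WZ.bz`, `TII.wz`, `MZ.bz`, `MZ.bz'`, `BQ.card` are proved in `RK1a`. -/
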