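import Mathlib
import Cfsg.Agent.Base
import Cfsg.Agent.Lib.ZD.Basic
import Cfsg.Agent.Lib.ZD.RK3c

/-! ZD package RK3: the consequences of `BS` are proved in `RK3b` (abstract form) and `RK3c`. -/
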